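import Groth.Agent.ResProp.EF.K111.FrameAsm
import Mathlib.RingTheory.Flat.Basic
import Mathlib.LinearAlgebra.Matrix.Adjugate
import Mathlib.RingTheory.TensorProduct.Maps

/-!
# G1B-F3P : the fields `P1`, `P2`, `P4` of `Frame` for the frame ring of an orbit
-/

set_option autoImplicit false

universe u

open Groth.Agent.Grpsch.AffGrpd Groth.Agent.ResProp.EF.K743
open scoped TensorProduct Matrix

namespace Groth.Agent.ResProp.EF.K642

/-! ### Linear algebra -/

/-- Cramer's rule for a linear form -/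
theorem cramer_id {T : Type*} [CommRing T] {r : ℕ} {n : Type*} (v : n → Fin r → T) (w : Fin r → T)
    (I : Fin r → n) (j : n) :
    Matrix.det (Matrix.of fun i a => v (I i) a) * ∑ a, w a * v j a =
      ∑ i, Matrix.det (Matrix.of fun i' a => v (Function.update I i j i') a) * ∑ a, w a * v (I i) a := by
  classical
  set M : Matrix (Fin r) (Fin r) T := Matrix.of fun i a => v (I i) a with hM
  have hu : ∀ i, (Matrix.of fun i' a => v (Function.update I i j i') a) = M.updateRow i (v j) := by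
    intro i
    ext i' a
    rw [Matrix.of_apply, Matrix.updateRow_apply]
    by_cases h : i' = i
    · subst h
      rw [Function.update_self, if_pos rfl]
    · rw [Function.update_of_ne h, if_neg h]
      rfl
  have hc : ∀ a, ∑ i, M i a * (M.updateRow i (v j)).det = M.det * v j a := by
    intro a
    have h := congrFun (Matrix.mulVec_cramer M.transpose (v j)) a
    rw [Matrix.det_transpose, Pi.smul_apply, smul_eq_mul] at h
    rw [← h, Matrix.mulVec, dotProduct]
    refine Finset.sum_congr rfl fun i _ => ?_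
    rw [Matrix.cramer_transpose_apply, Matrix.transpose_apply]
  simp only [hu]
  calc M.det * ∑ a, w a * v j a = ∑ a, w a * ∑ i, M i a * (M.updateRow i (v j)).det := by
        rw [Finset.mul_sum]
        refine Finset.sum_congr rfl fun a _ => ?_
        rw [hc]
        ring
    _ = ∑ i, (M.updateRow i (v j)).det * ∑ a, w a * v (I i) a := by
        simp only [Finset.mul_sum]
        rw [Finset.sum_comm]
        refine Finset.sum_congr rfl fun i _ => Finset.sum_congr rfl fun a _ => ?_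
        change w a * (v (I i) a * _) = _
        ring

theorem pair_inv {T T' : Type*} [CommRing T] [CommRing T'] {r : ℕ} (g : GL (Fin r) T) (φ : T →+* T')
    (w u : Fin r → T') :
    ∑ a, (∑ a', w a' * φ ((g⁻¹).1 a' a)) * (∑ a'', φ (g.1 a a'') * u a'') = ∑ a, w a * u a := by
  have h1 : ((g⁻¹).1.map φ) * (g.1.map φ) = 1 := by
    rw [← Matrix.map_mul, ← Units.val_mul, inv_mul_cancel, Units.val_one, Matrix.map_one _ (map_zero φ) (map_one φ)]
  have h2 : (w ᵥ* ((g⁻¹).1.map φ)) ⬝ᵥ ((g.1.map φ) *ᵥ u) = w ⬝ᵥ u := by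
    rw [← Matrix.dotProduct_mulVec, Matrix.mulVec_mulVec, h1, Matrix.one_mulVec]
  exact h2

/-! ### Groupoids -/

section grpd

variable {A Γ : Type u} [CommRing A] [CommRing Γ] {G : RGrpd A Γ}

theorem comp_congr {T : Type u} [CommRing T] {α α' β β' : Γ →+* T} (ha : α = α') (hb : β = β')
    (h : α.comp G.s = β.comp G.t) (h' : α'.comp G.s = β'.comp G.t) : G.comp α β h = G.comp α' β' h' := by
  subst ha hb
  rfl

theorem comp_inv_cond {T : Type u} [CommRing T] (α β : Γ →+* T) (h : α.comp G.s = β.comp G.t) :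
    (G.comp α β h).comp G.s = (β.comp G.i).comp G.t := by
  rw [G.comp_s, RingHom.comp_assoc, G.i_t]

theorem comp_comp_inv {T : Type u} [CommRing T] (α β : Γ →+* T) (h : α.comp G.s = β.comp G.t) :
    G.comp (G.comp α β h) (β.comp G.i) (comp_inv_cond α β h) = α := by
  have h2 : β.comp G.s = (β.comp G.i).comp G.t := by rw [RingHom.comp_assoc, G.i_t]
  have e1 : G.comp (G.comp α β h) (β.comp G.i) (comp_inv_cond α β h) =
      G.comp α (G.comp β (β.comp G.i) h2) (h.trans (G.comp_t _ _ h2).symm) := G.assoc α β (β.comp G.i) h h2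
  rw [e1]
  refine (comp_congr rfl ?_ _ (by rw [RingHom.comp_assoc, G.e_t, RingHom.comp_id])).trans (G.comp_e α)
  rw [G.comp_i β, h]

end grpd

/-! ### Universal frames -/

section frame

variable {A Γ : Type u} [CommRing A] [CommRing Γ] {G : RGrpd A Γ} {X : Gens G} {m : ℕ} {K : Type u} [Field K]
  {x : A →+* K} (P : PtData G X m x) (R : LRing G x P.r₁ P.r₂)

/-- `Q₂` in `L` -/
noncomputable def Q₂L (J : Fin m → Fin X.n) (b : Fin P.r₂) : R.L :=
  ∑ κ : Fin m → Fin P.r₁, (∏ i, LRing.Q₁L P R (J i) (κ i)) * LRing.μL P R κ b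

theorem src {T : Type u} [CommRing T] (φ : R.L →+* T) (h : Γ →+* T)
    (e : h.comp G.s = (φ.comp R.γ).comp G.t) : (G.comp h (φ.comp R.γ) e).comp G.s = (φ.comp R.y).comp x := by
  rw [G.comp_s, RingHom.comp_assoc, R.hγ, ← RingHom.comp_assoc]

/-- the linear form `w₁'` -/
noncomputable def wf₁ {T : Type u} [CommRing T] (φ : R.L →+* T) (h : Γ →+* T)
    (e : h.comp G.s = (φ.comp R.γ).comp G.t) (a : Fin P.r₁) : T :=
  ∑ a', P.w₁ (φ.comp R.y) (G.comp h (φ.comp R.γ) e) (src P R φ h e) a' * φ ((R.l₁⁻¹).1 a' a)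

/-- the linear form `w₂'` -/
noncomputable def wf₂ {T : Type u} [CommRing T] (φ : R.L →+* T) (h : Γ →+* T)
    (e : h.comp G.s = (φ.comp R.γ).comp G.t) (b : Fin P.r₂) : T :=
  ∑ b', P.w₂ (φ.comp R.y) (G.comp h (φ.comp R.γ) e) (src P R φ h e) b' * φ ((R.l₂⁻¹).1 b' b)

theorem key₁ {T : Type u} [CommRing T] (φ : R.L →+* T) (h : Γ →+* T)
    (e : h.comp G.s = (φ.comp R.γ).comp G.t) (j : Fin X.n) :
    h (X.x j) = ∑ a, wf₁ P R φ h e a * φ (LRing.Q₁L P R j a) := by
  have h1 : h (X.x j) = ∑ k, G.comp h (φ.comp R.γ) e (X.x k) * φ (R.γ (G.i (X.c k j))) := by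
    have := X.hc (G.comp h (φ.comp R.γ) e) ((φ.comp R.γ).comp G.i) (comp_inv_cond _ _ e) j
    rw [comp_comp_inv] at this
    exact this
  have h2 : ∀ a, φ (LRing.Q₁L P R j a) =
      ∑ a', φ (R.l₁.1 a a') * ∑ k, φ (R.γ (G.i (X.c k j))) * φ (R.y (P.V₁ k a')) := by
    intro a
    rw [LRing.Q₁L, map_sum]
    simp only [map_mul, map_sum, Finset.mul_sum]
    rw [Finset.sum_comm]
    refine Finset.sum_congr rfl fun a' _ => Finset.sum_congr rfl fun k _ => ?_
    ring
  simp only [h2]
  unfold wf₁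
  rw [pair_inv, h1]
  simp only [P.hw₁ (φ.comp R.y) (G.comp h (φ.comp R.γ) e) (src P R φ h e), Finset.mul_sum, Finset.sum_mul,
    RingHom.comp_apply]
  rw [Finset.sum_comm]
  refine Finset.sum_congr rfl fun a' _ => Finset.sum_congr rfl fun k _ => ?_
  ring

theorem prod_wf₁ {T : Type u} [CommRing T] (φ : R.L →+* T) (h : Γ →+* T)
    (e : h.comp G.s = (φ.comp R.γ).comp G.t) (κ : Fin m → Fin P.r₁) :
    ∏ i, wf₁ P R φ h e (κ i) = ∑ b, wf₂ P R φ h e b * φ (LRing.μL P R κ b) := by
  classical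
  have h2 : ∀ b, φ (LRing.μL P R κ b) = ∑ b', φ (R.l₂.1 b b') *
      ∑ κ' : Fin m → Fin P.r₁, φ (R.y (P.μ₀ κ' b')) * ∏ i, φ ((R.l₁⁻¹).1 (κ' i) (κ i)) := by
    intro b
    rw [LRing.μL, map_sum]
    refine Finset.sum_congr rfl fun b' _ => ?_
    rw [map_sum, Finset.mul_sum]
    refine Finset.sum_congr rfl fun κ' _ => ?_
    rw [map_mul, map_mul, map_prod, mul_assoc]
  simp only [h2]
  unfold wf₂
  rw [pair_inv]
  unfold wf₁
  rw [Finset.prod_univ_sum, Fintype.piFinset_univ]
  simp only [Finset.prod_mul_distrib, P.hμ (φ.comp R.y) (G.comp h (φ.comp R.γ) e) (src P R φ h e), Finset.mul_sum,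
    Finset.sum_mul, RingHom.comp_apply]
  rw [Finset.sum_comm]
  refine Finset.sum_congr rfl fun b' _ => Finset.sum_congr rfl fun κ' _ => ?_
  ring

theorem key₂ {T : Type u} [CommRing T] (φ : R.L →+* T) (h : Γ →+* T)
    (e : h.comp G.s = (φ.comp R.γ).comp G.t) (J : Fin m → Fin X.n) :
    h (X.mon J) = ∑ b, wf₂ P R φ h e b * φ (Q₂L P R J b) := by
  classical
  rw [Gens.mon, map_prod]
  simp only [key₁ P R φ h e]
  rw [Finset.prod_univ_sum, Fintype.piFinset_univ]
  simp only [Finset.prod_mul_distrib, prod_wf₁, Q₂L, map_sum, map_mul, map_prod, Finset.mul_sum, Finset.sum_mul]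
  rw [Finset.sum_comm]
  refine Finset.sum_congr rfl fun b _ => Finset.sum_congr rfl fun κ _ => ?_
  ring

theorem coe_Q₂ (J : Fin m → Fin X.n) (b : Fin P.r₂) :
    (LRing.DL P R).subtype ((LRing.frameData P R).Q₂ J b) = Q₂L P R J b := by
  refine (map_sum _ _ _).trans (Finset.sum_congr rfl fun κ _ => ?_)
  refine (map_mul _ _ _).trans ?_
  congr 1
  exact map_prod _ _ _

theorem coe_m₁ (I : Fin P.r₁ → Fin X.n) :
    (LRing.DL P R).subtype ((LRing.frameData P R).m₁ I) =
      Matrix.det (Matrix.of fun i a => LRing.Q₁L P R (I i) a) := by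
  refine (RingHom.map_det _ _).trans ?_
  rfl

theorem coe_m₂ (I : Fin P.r₂ → Fin m → Fin X.n) :
    (LRing.DL P R).subtype ((LRing.frameData P R).m₂ I) =
      Matrix.det (Matrix.of fun i b => Q₂L P R (I i) b) := by
  refine (RingHom.map_det _ _).trans ?_
  congr 1
  ext i b
  exact coe_Q₂ P R (I i) b

/-- An identity `φ d₀ * h g₀ = ∑ φ (d i) * h (g i)` on the points of `DL ×_A Γ` may be checked on `L ×_A Γ`
(`s` flat). -/
theorem check (hs : G.s.Flat) {r : ℕ} (d₀ : LRing.DL P R) (g₀ : Γ) (d : Fin r → LRing.DL P R) (g : Fin r → Γ)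
    (hL : ∀ {T : Type u} [CommRing T] (φ : R.L →+* T) (h : Γ →+* T), h.comp G.s = (φ.comp R.γ).comp G.t →
      φ ((LRing.DL P R).subtype d₀) * h g₀ = ∑ i, φ ((LRing.DL P R).subtype (d i)) * h (g i))
    {T : Type u} [CommRing T] (φ : (LRing.frameData P R).D →+* T) (h : Γ →+* T)
    (e : h.comp G.s = φ.comp (LRing.frameData P R).ι) :
    φ d₀ * h g₀ = ∑ i, φ (d i) * h (g i) := by
  let a1 : Algebra A (LRing.frameData P R).D := (LRing.frameData P R).ι.toAlgebra
  let a2 : Algebra A Γ := G.s.toAlgebra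
  let a3 : Algebra A R.L := (R.γ.comp G.t).toAlgebra
  let a4 : Algebra A T := (h.comp G.s).toAlgebra
  have : Module.Flat A Γ := hs
  let j : (LRing.frameData P R).D →ₐ[A] R.L := { (LRing.DL P R).subtype with commutes' := fun _ => rfl }
  have hj : Function.Injective j.toLinearMap := Subtype.val_injective
  have hinj : Function.Injective (LinearMap.rTensor Γ j.toLinearMap) :=
    Module.Flat.rTensor_preserves_injective_linearMap _ hj
  have hmul : ∀ (a : R.L) (b : Γ), a ⊗ₜ[A] b = (Algebra.TensorProduct.includeLeft : R.L →ₐ[A] R.L ⊗[A] Γ).toRingHom a *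
      (Algebra.TensorProduct.includeRight : Γ →ₐ[A] R.L ⊗[A] Γ).toRingHom b := fun a b => by
    change a ⊗ₜ[A] b = (a ⊗ₜ[A] (1 : Γ)) * ((1 : R.L) ⊗ₜ[A] b)
    rw [Algebra.TensorProduct.tmul_mul_tmul, mul_one, one_mul]
  have hz : (show (LRing.frameData P R).D from d₀) ⊗ₜ[A] g₀ =
      ∑ i, (show (LRing.frameData P R).D from d i) ⊗ₜ[A] g i := by
    apply hinj
    rw [map_sum]
    refine (hmul _ _).trans ((hL _ _ ?_).trans (Finset.sum_congr rfl fun i _ => (hmul _ _).symm))
    ext a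
    exact ((Algebra.TensorProduct.includeRight : Γ →ₐ[A] R.L ⊗[A] Γ).commutes a).trans
      ((Algebra.TensorProduct.includeLeft : R.L →ₐ[A] R.L ⊗[A] Γ).commutes a).symm
  let φ' : (LRing.frameData P R).D →ₐ[A] T := { φ with commutes' := fun a => (DFunLike.congr_fun e a).symm }
  let h' : Γ →ₐ[A] T := { h with commutes' := fun _ => rfl }
  have hl := congrArg (Algebra.TensorProduct.lift φ' h' fun _ _ => Commute.all _ _) hz
  rw [map_sum] at hl
  refine (Algebra.TensorProduct.lift_tmul φ' h' _ _ _).symm.trans (hl.trans (Finset.sum_congr rfl fun i _ => ?_))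
  exact Algebra.TensorProduct.lift_tmul φ' h' _ _ _

theorem frame_P1 (hs : G.s.Flat) {T : Type u} [CommRing T] (φ : (LRing.frameData P R).D →+* T) (h : Γ →+* T)
    (e : h.comp G.s = φ.comp (LRing.frameData P R).ι) (I : Fin (LRing.frameData P R).r₁ → Fin X.n) (j : Fin X.n) :
    φ ((LRing.frameData P R).m₁ I) * h (X.x j) =
      ∑ i, φ ((LRing.frameData P R).m₁ (Function.update I i j)) * h (X.x (I i)) := by
  refine check P R hs ((LRing.frameData P R).m₁ I) (X.x j)
    (fun i => (LRing.frameData P R).m₁ (Function.update I i j)) (fun i => X.x (I i)) (fun {T} _ ψ g e' => ?_) φ h e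
  have e1 : ∀ I' : Fin P.r₁ → Fin X.n, ψ ((LRing.DL P R).subtype ((LRing.frameData P R).m₁ I')) =
      Matrix.det (Matrix.of fun i a => ψ (LRing.Q₁L P R (I' i) a)) := fun I' => by
    rw [coe_m₁ P R I', RingHom.map_det]
    rfl
  have h1 := cramer_id (fun j a => ψ (LRing.Q₁L P R j a)) (wf₁ P R ψ g e') I j
  rw [key₁ P R ψ g e' j]
  refine (congrArg (· * _) (e1 I)).trans (h1.trans (Finset.sum_congr rfl fun i _ => ?_))
  rw [key₁ P R ψ g e' (I i)]
  exact (congrArg (· * _) (e1 (Function.update I i j))).symm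

theorem frame_P2 (hs : G.s.Flat) {T : Type u} [CommRing T] (φ : (LRing.frameData P R).D →+* T) (h : Γ →+* T)
    (e : h.comp G.s = φ.comp (LRing.frameData P R).ι) (I : Fin (LRing.frameData P R).r₂ → Fin m → Fin X.n)
    (J : Fin m → Fin X.n) :
    φ ((LRing.frameData P R).m₂ I) * h (X.mon J) =
      ∑ i, φ ((LRing.frameData P R).m₂ (Function.update I i J)) * h (X.mon (I i)) := by
  refine check P R hs ((LRing.frameData P R).m₂ I) (X.mon J)
    (fun i => (LRing.frameData P R).m₂ (Function.update I i J)) (fun i => X.mon (I i)) (fun {T} _ ψ g e' => ?_) φ h e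
  have e1 : ∀ I' : Fin P.r₂ → Fin m → Fin X.n, ψ ((LRing.DL P R).subtype ((LRing.frameData P R).m₂ I')) =
      Matrix.det (Matrix.of fun i b => ψ (Q₂L P R (I' i) b)) := fun I' => by
    rw [coe_m₂ P R I', RingHom.map_det]
    rfl
  have h1 := cramer_id (fun J b => ψ (Q₂L P R J b)) (wf₂ P R ψ g e') I J
  rw [key₂ P R ψ g e' J]
  refine (congrArg (· * _) (e1 I)).trans (h1.trans (Finset.sum_congr rfl fun i _ => ?_))
  rw [key₂ P R ψ g e' (I i)]
  exact (congrArg (· * _) (e1 (Function.update I i J))).symm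

theorem frame_P4 (F : (Fin m → Fin X.n) → A) (hF : ∑ J, G.s (F J) * X.mon J = 0) (b : Fin (LRing.frameData P R).r₂) :
    ∑ J, (LRing.frameData P R).ι (F J) * (LRing.frameData P R).Q₂ J b = 0 := by
  -- the relation in `L`
  have hL : ∀ b : Fin P.r₂, ∑ J, R.γ (G.t (F J)) * Q₂L P R J b = 0 := by
    have hd : (fun b' : Fin P.r₂ => ∑ b, (R.l₂⁻¹).1 b' b * ∑ J, R.γ (G.t (F J)) * Q₂L P R J b) = 0 := by
      refine P.inj₂ R.y _ fun {T'} _ f h e => ?_
      -- the arrow `h ∘ γ⁻¹`
      have c1 : h.comp G.s = ((f.comp R.γ).comp G.i).comp G.t := by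
        rw [RingHom.comp_assoc, G.i_t, e, RingHom.comp_assoc, RingHom.comp_assoc, R.hγ]
      set h₀ : Γ →+* T' := G.comp h ((f.comp R.γ).comp G.i) c1 with hh₀
      have e₀ : h₀.comp G.s = (f.comp R.γ).comp G.t := by
        rw [hh₀, G.comp_s, RingHom.comp_assoc, G.i_s]
      have hback : G.comp h₀ (f.comp R.γ) e₀ = h := by
        have h2 : (((f.comp R.γ).comp G.i).comp G.s) = (f.comp R.γ).comp G.t := by
          rw [RingHom.comp_assoc, G.i_s]
        have e1 := G.assoc h ((f.comp R.γ).comp G.i) (f.comp R.γ) c1 h2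
        refine e1.trans ?_
        refine (comp_congr rfl ?_ _ (by rw [RingHom.comp_assoc, G.e_t, RingHom.comp_id])).trans (G.comp_e h)
        rw [G.i_comp (f.comp R.γ)]
        congr 1
        rw [e, RingHom.comp_assoc, RingHom.comp_assoc, R.hγ]
      have h3 := congrArg h₀ hF
      rw [map_sum, map_zero] at h3
      have h4 : ∀ J, h₀ (G.s (F J) * X.mon J) = f (R.γ (G.t (F J))) * ∑ b, wf₂ P R f h₀ e₀ b * f (Q₂L P R J b) := by
        intro J
        rw [map_mul, key₂ P R f h₀ e₀]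
        congr 1
        exact DFunLike.congr_fun e₀ (F J)
      simp only [h4] at h3
      have h5 : ∀ b', P.w₂ (f.comp R.y) h e b' =
          P.w₂ (f.comp R.y) (G.comp h₀ (f.comp R.γ) e₀) (src P R f h₀ e₀) b' := by
        intro b'
        congr 1
        exact hback.symm
      rw [← h3]
      simp only [h5, map_sum, map_mul, Finset.mul_sum, wf₂, Finset.sum_mul]
      refine (Finset.sum_congr rfl fun b' _ => Finset.sum_comm).trans (Finset.sum_comm.trans ?_)
      refine Finset.sum_congr rfl fun J _ => Finset.sum_comm.trans ?_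
      refine Finset.sum_congr rfl fun b _ => Finset.sum_congr rfl fun b' _ => ?_
      ring
    intro b
    have h6 : ∀ b', ∑ b, (R.l₂⁻¹).1 b' b * ∑ J, R.γ (G.t (F J)) * Q₂L P R J b = 0 := fun b' => congrFun hd b'
    have h7 : ((R.l₂⁻¹).1 *ᵥ fun b => ∑ J, R.γ (G.t (F J)) * Q₂L P R J b) = 0 := funext h6
    have h8 := congrArg (fun v => R.l₂.1 *ᵥ v) h7
    simp only [Matrix.mulVec_mulVec, Matrix.mulVec_zero] at h8
    rw [← Units.val_mul, mul_inv_cancel, Units.val_one, Matrix.one_mulVec] at h8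
    exact congrFun h8 b
  apply Subtype.val_injective
  refine Eq.trans ?_ (hL b)
  refine (map_sum (LRing.DL P R).subtype _ _).trans (Finset.sum_congr rfl fun J _ => ?_)
  refine (map_mul _ _ _).trans ?_
  congr 1
  exact coe_Q₂ P R J b

end frame

/-- **G1B-F3P** -/
theorem stmtFrameP : K111.StmtFrameP.{u} := by
  intro A Γ _ _ G X m K _ x P R hs
  exact ⟨frame_P1 P R hs, frame_P2 P R hs, frame_P4 P R⟩

end Groth.Agent.ResProp.EF.K642
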